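import Groth.Agent.Lib.Altitude.Scheme
import Groth.Agent.Lib.Altitude.Chains
import Groth.Agent.Lib.Altitude.Fibre
import Groth.Agent.Lib.DimPt.Basic
import Groth.Agent.Lib.ArtinTate.Space
import Groth.Agent.Lib.NoethTop.Constructible
import Groth.Agent.Lib.Excellent.Localization
import Mathlib.AlgebraicGeometry.Morphisms.FinitePresentation

/-!
# Dimension of the closure of a point of a scheme of finite type over a local ring
-/

universe u

open CategoryTheory AlgebraicGeometry TopologicalSpace

namespace GrothLib.DimClosure18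

open GrothLib

theorem isLocallyClosed_singleton {T : Type u} [TopologicalSpace T] {w : T}
    (h : Topology.IsConstructible ({w} : Set T)) : IsLocallyClosed ({w} : Set T) := by
  obtain ⟨S, -, hS', hw⟩ := NoethTop.isFinUnionLC_of_isConstructible h
  obtain ⟨t, ht, hwt⟩ : w ∈ ⋃₀ S := hw ▸ Set.mem_singleton w
  rw [show ({w} : Set T) = t from (Set.Subset.antisymm (Set.singleton_subset_iff.2 hwt)
    fun v hv => hw ▸ ⟨t, ht, hv⟩)]
  exact hS' t ht

/-- Codimensions between points of a spectrum are heights in quotients. -/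
theorem codimPt_spec {A : Type u} [CommRing A] {p q : ↥(Spec (CommRingCat.of A))} (h : p ⤳ q)
    (Q : PrimeSpectrum (A ⧸ p.asIdeal))
    (hQ : Q.asIdeal = q.asIdeal.map (Ideal.Quotient.mk p.asIdeal)) :
    Algz.codimPt p q h = Q.asIdeal.height := by
  let π := Ideal.Quotient.mk p.asIdeal
  have hpq : p.asIdeal ≤ q.asIdeal := (PrimeSpectrum.le_iff_specializes p q).2 h
  have hc : ∀ I : Ideal A, p.asIdeal ≤ I → (I.map π).comap π = I := fun I hI => by
    rw [Ideal.comap_map_of_surjective _ Ideal.Quotient.mk_surjective, ← RingHom.ker_eq_comap_bot,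
      Ideal.mk_ker, sup_eq_left.2 hI]
  have hQ' : Q.asIdeal.comap π = q.asIdeal := hQ ▸ hc _ hpq
  have hge : ∀ R : PrimeSpectrum (A ⧸ p.asIdeal), p.asIdeal ≤ R.asIdeal.comap π := fun R => by
    conv_lhs => rw [← Ideal.mk_ker (I := p.asIdeal)]
    exact Ideal.comap_mono bot_le
  let top : Set.Ici (Specialization.toEquiv q) :=
    ⟨Specialization.toEquiv p, Specialization.toEquiv_le_toEquiv.mpr h⟩
  let φ : Set.Iic Q → Set.Iic top := fun R =>
    ⟨⟨Specialization.toEquiv (PrimeSpectrum.comap π R.1), Specialization.toEquiv_le_toEquiv.mpr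
        ((PrimeSpectrum.le_iff_specializes _ _).1 (show R.1.asIdeal.comap π ≤ q.asIdeal from
          hQ' ▸ Ideal.comap_mono R.2))⟩,
      Specialization.toEquiv_le_toEquiv.mpr ((PrimeSpectrum.le_iff_specializes _ _).1 (hge R.1))⟩
  have hbij : Function.Bijective φ := by
    refine ⟨fun R R' e => Subtype.ext (PrimeSpectrum.comap_injective_of_surjective π
      Ideal.Quotient.mk_surjective (congrArg (fun v => Specialization.ofEquiv v.1.1) e)), fun v => ?_⟩
    let r : PrimeSpectrum A := Specialization.ofEquiv v.1.1
    have h1 : p.asIdeal ≤ r.asIdeal := (PrimeSpectrum.le_iff_specializes p r).2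
      (Specialization.toEquiv_le_toEquiv.mp v.2)
    have h2 : r.asIdeal ≤ q.asIdeal := (PrimeSpectrum.le_iff_specializes r q).2
      (Specialization.toEquiv_le_toEquiv.mp v.1.2)
    refine ⟨⟨⟨r.asIdeal.map π, Ideal.isPrime_map_quotientMk_of_isPrime h1⟩,
      show r.asIdeal.map π ≤ Q.asIdeal from hQ ▸ Ideal.map_mono h2⟩,
      Subtype.ext (Subtype.ext (congrArg Specialization.toEquiv (PrimeSpectrum.ext (hc _ h1))))⟩
  let e : (Set.Iic Q)ᵒᵈ ≃o Set.Iic top :=
    { toEquiv := OrderDual.ofDual.trans (Equiv.ofBijective φ hbij)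
      map_rel_iff' := fun {R R'} => by
        show Specialization.toEquiv (PrimeSpectrum.comap π (OrderDual.ofDual R).1) ≤
          Specialization.toEquiv (PrimeSpectrum.comap π (OrderDual.ofDual R').1) ↔ _
        rw [Specialization.toEquiv_le_toEquiv, ← PrimeSpectrum.le_iff_specializes]
        refine ⟨fun hle => ?_, fun hle => Ideal.comap_mono hle⟩
        show (OrderDual.ofDual R').1.asIdeal ≤ (OrderDual.ofDual R).1.asIdeal
        rw [← Ideal.map_comap_of_surjective π Ideal.Quotient.mk_surjective (OrderDual.ofDual R').1.asIdeal,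
          ← Ideal.map_comap_of_surjective π Ideal.Quotient.mk_surjective (OrderDual.ofDual R).1.asIdeal]
        exact Ideal.map_mono hle }
  have h1 : (Order.height top : WithBot ℕ∞) = (Order.height Q : WithBot ℕ∞) := by
    rw [Order.height_eq_krullDim_Iic, Order.height_eq_krullDim_Iic,
      ← Order.krullDim_eq_of_orderIso e, Order.krullDim_orderDual]
  rw [PrimeSpectrum.height_eq_orderHeight]
  exact WithBot.coe_injective h1

variable {A : Type u} [CommRing A] [IsNoetherianRing A] [IsLocalRing A]

/-- The dimension of the closure of `x`, up to the closed fibre. -/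
theorem dim_closure (hA : CAlg.IsUniversallyCatenary A) {X : Scheme.{u}}
    (f : X ⟶ Spec (CommRingCat.of A)) [LocallyOfFiniteType f] [QuasiCompact f] (x : X) (a b d : ℕ)
    (ha : ringKrullDim (A ⧸ (f.base x).asIdeal) = a)
    (hb : letI := (f.residueFieldMap x).hom.toAlgebra;
      Algebra.trdeg ((Spec (CommRingCat.of A)).residueField (f.base x)) (X.residueField x) = b)
    (hd : topologicalKrullDim ↥(closure ({x} : Set X)) = d) :
    ((closure ({x} : Set X) ∩ f.base ⁻¹'
        {((IsLocalRing.closedPoint A : PrimeSpectrum A) : ↥(Spec (CommRingCat.of A)))}).Nonempty →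
      d = a + b) ∧
    (closure ({x} : Set X) ∩ f.base ⁻¹'
        {((IsLocalRing.closedPoint A : PrimeSpectrum A) : ↥(Spec (CommRingCat.of A)))} = ∅ →
      d + 1 = a + b) := by
  let m : ↥(Spec (CommRingCat.of A)) := (IsLocalRing.closedPoint A : PrimeSpectrum A)
  haveI : IsNoetherianRing (CommRingCat.of A) := ‹IsNoetherianRing A›
  haveI : IsLocallyNoetherian X := LocallyOfFiniteType.isLocallyNoetherian f
  haveI : CompactSpace X := QuasiCompact.compactSpace_of_compactSpace f
  haveI : IsNoetherian X := {}
  haveI : LocallyOfFinitePresentation f := inferInstance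
  have hm : ∀ v : ↥(Spec (CommRingCat.of A)), v ⤳ m := fun v =>
    (PrimeSpectrum.le_iff_specializes v _).1 (IsLocalRing.le_maximalIdeal v.2.ne_top)
  let y := f.base x
  let R := A ⧸ y.asIdeal
  haveI : IsLocalRing R := IsLocalRing.of_surjective' _ Ideal.Quotient.mk_surjective
  have hUR : CAlg.IsUniversallyCatenary R :=
    Altitude.isUniversallyCatenary_of_surjective _ Ideal.Quotient.mk_surjective hA
  have hcat : CAlg.IsCatenary R := hUR.2 R inferInstance
  -- closed points of the closure
  have hpt : ∀ (z : X) (hxz : x ⤳ z), IsClosed ({z} : Set X) →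
      ∃ c : ℕ, Algz.codimPt x z hxz = c ∧
        (f.base z = m → c = a + b) ∧ (f.base z ≠ m → c + 1 = a + b) := by
    intro z hxz hz
    obtain ⟨t, s, c, e, ht, hs, hc, he, -, heq⟩ := Altitude.dim_locQuot_add_trdeg f hxz
    have htb : t = b := Nat.cast_injective (R := Cardinal) (ht.symm.trans hb)
    have hs0 : s = 0 := by
      obtain ⟨n, hn, hn'⟩ := Altitude.exists_trdeg_eq_dim_closure f z
      have hsn : s = n := Nat.cast_injective (R := Cardinal) (hs.symm.trans hn)
      have hcl : IsClosed ({f.asFiber z} : Set (f.fiber (f z))) := by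
        have hi : Function.Injective (f.fiberι (f z)) := (f.fiberι (f z)).isEmbedding.injective
        have h1 := hz.preimage (f.fiberι (f z)).continuous
        convert h1 using 1
        ext v
        constructor
        · rintro rfl
          exact Scheme.Hom.fiberι_asFiber f z
        · intro hv
          exact hi (Eq.trans hv (Scheme.Hom.fiberι_asFiber f z).symm)
      rw [hcl.closure_eq] at hn'
      haveI : Subsingleton ↥({f.asFiber z} : Set (f.fiber (f z))) :=
        Set.subsingleton_singleton.coe_sort
      have h0 : topologicalKrullDim ↥({f.asFiber z} : Set (f.fiber (f z))) ≤ 0 :=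
        Order.krullDim_nonpos_iff_forall_isMax.2 fun T T' _ => by
          intro v _
          obtain ⟨w, hw⟩ := T.isIrreducible.nonempty
          exact (Subsingleton.elim w v) ▸ hw
      rw [hn'] at h0
      have : n ≤ 0 := by exact_mod_cast h0
      omega
    have hUC : CAlg.IsUniversallyCatenary ((Spec (CommRingCat.of A)).presheaf.stalk (f z)) :=
      Altitude.isUniversallyCatenary_of_surjective (Spec.stalkIso (CommRingCat.of A) (f z)).inv.hom
        (ConcreteCategory.bijective_of_isIso (Spec.stalkIso (CommRingCat.of A) (f z)).inv).2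
        (Excellent.isUniversallyCatenary_localization
          (A' := Localization.AtPrime (PrimeSpectrum.asIdeal (f z)))
          (PrimeSpectrum.asIdeal (f z)).primeCompl hA)
    have hsum := heq hUC
    rw [DimPt.ringKrullDim_locQuot] at hc he
    refine ⟨c, by exact_mod_cast hc, fun hzm => ?_, fun hzm => ?_⟩
    · have hea : e = a := by
        have h1 := codimPt_spec (hxz.map f.continuous) ⟨IsLocalRing.maximalIdeal R, inferInstance⟩ (by
          show IsLocalRing.maximalIdeal R = _
          rw [show (f z) = m from hzm]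
          exact ((IsLocalRing.map_maximalIdeal_of_surjective _ Ideal.Quotient.mk_surjective)).symm)
        rw [h1] at he
        have h2 := (IsLocalRing.maximalIdeal_height_eq_ringKrullDim (R := R)).symm.trans he
        rw [ha] at h2
        exact_mod_cast h2.symm
      omega
    · let w := f.base z
      have hyw : y ⤳ w := hxz.map f.continuous
      have hyq : y.asIdeal ≤ w.asIdeal := (PrimeSpectrum.le_iff_specializes y w).2 hyw
      let Q : PrimeSpectrum R := ⟨w.asIdeal.map (Ideal.Quotient.mk y.asIdeal),
        Ideal.isPrime_map_quotientMk_of_isPrime hyq⟩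
      have he' : (e : ℕ∞) = Q.asIdeal.height := by
        rw [codimPt_spec hyw Q rfl] at he
        exact_mod_cast he.symm
      -- the quotient by the image of `z` has dimension one
      have hwl : IsLocallyClosed ({w} : Set ↥(Spec (CommRingCat.of A))) := by
        refine isLocallyClosed_singleton ?_
        have h1 := Scheme.Hom.isConstructible_image f
          (NoethTop.isConstructible_of_isLocallyClosed hz.isLocallyClosed)
        rwa [Set.image_singleton] at h1
      have hone : Algz.codimPt w m (hm w) = 1 := DeltaZ.codimPt_eq_one (hm w) hzm fun v hwv hvm => by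
        by_cases hvw : v = w
        · exact Or.inl hvw
        · exact Or.inr ((hvm.mem_closed
            (ArtinTate.isClosed_of_specializes_of_isLocallyClosed hwl hwv hvw) rfl).symm)
      haveI : IsLocalRing (A ⧸ w.asIdeal) := IsLocalRing.of_surjective' _ Ideal.Quotient.mk_surjective
      rw [codimPt_spec (hm w) ⟨IsLocalRing.maximalIdeal (A ⧸ w.asIdeal), inferInstance⟩
        (IsLocalRing.map_maximalIdeal_of_surjective _ Ideal.Quotient.mk_surjective).symm] at hone
      have hdim1 : ringKrullDim (A ⧸ w.asIdeal) = (1 : ℕ) := by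
        rw [← IsLocalRing.maximalIdeal_height_eq_ringKrullDim, hone]
        rfl
      haveI : Q.asIdeal.IsPrime := Q.2
      haveI : IsLocalRing (R ⧸ Q.asIdeal) := IsLocalRing.of_surjective' _ Ideal.Quotient.mk_surjective
      have hadd := Altitude.height_eq_add_of_isCatenary hcat Q.asIdeal (IsLocalRing.maximalIdeal R)
        (IsLocalRing.le_maximalIdeal Q.2.ne_top)
      rw [IsLocalRing.map_maximalIdeal_of_surjective _ Ideal.Quotient.mk_surjective, ← he'] at hadd
      have h2 : ((IsLocalRing.maximalIdeal (R ⧸ Q.asIdeal)).height : WithBot ℕ∞) = (1 : ℕ) := by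
        rw [IsLocalRing.maximalIdeal_height_eq_ringKrullDim, ← hdim1]
        exact ringKrullDim_eq_of_ringEquiv (DoubleQuot.quotQuotEquivQuotOfLE hyq)
      rw [show (IsLocalRing.maximalIdeal (R ⧸ Q.asIdeal)).height = (1 : ℕ) by exact_mod_cast h2] at hadd
      have h3 : (a : WithBot ℕ∞) = ((e + 1 : ℕ) : ℕ∞) := by
        rw [← ha, ← IsLocalRing.maximalIdeal_height_eq_ringKrullDim, hadd]
        norm_cast
      have : a = e + 1 := by exact_mod_cast h3
      omega
  have hgen : IsGenericPoint x (closure ({x} : Set X)) := rfl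
  have hdle : ∀ N : ℕ, (∀ (z : X) (hxz : x ⤳ z), IsClosed ({z} : Set X) → ∀ c : ℕ,
      Algz.codimPt x z hxz = c → c ≤ N) → d ≤ N := by
    intro N hN
    have h1 : topologicalKrullDim ↥(closure ({x} : Set X)) ≤ (N : WithBot ℕ∞) := by
      refine DimPt.dim_le_of_codimPt_le isClosed_closure hgen fun v hv => ?_
      obtain ⟨z, hvz, hz⟩ := IsClosed.exists_closed_singleton (isClosed_closure (s := ({v} : Set X)))
        ⟨v, subset_closure rfl⟩
      have hvz' : v ⤳ z := specializes_iff_mem_closure.2 hvz
      have hxv : x ⤳ v := hgen.specializes hv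
      obtain ⟨c, hc, -⟩ := hpt z (hxv.trans hvz') hz
      have h2 : Algz.codimPt x v hxv ≤ (N : ℕ∞) :=
        (DeltaZ.codimPt_mono_right hxv hvz').trans (hc ▸ (by exact_mod_cast hN z _ hz c hc))
      exact_mod_cast h2
    rw [hd] at h1
    exact_mod_cast h1
  have hdge : ∀ (z : X) (hxz : x ⤳ z) (c : ℕ), Algz.codimPt x z hxz = c → c ≤ d := by
    intro z hxz c hc
    have h1 := DimPt.codimPt_le_dim isClosed_closure (subset_closure (Set.mem_singleton x)) hxz
    rw [hd, hc] at h1
    exact_mod_cast h1
  refine ⟨fun ⟨v, hv, hvm⟩ => ?_, fun hempty => ?_⟩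
  · obtain ⟨z, hvz, hz⟩ := IsClosed.exists_closed_singleton (isClosed_closure (s := ({v} : Set X)))
      ⟨v, subset_closure rfl⟩
    have hxz : x ⤳ z := (hgen.specializes hv).trans (specializes_iff_mem_closure.2 hvz)
    have hzm : f.base z = m := by
      have h1 : m ⤳ f.base z := (specializes_of_eq (show f.base v = m from hvm).symm).trans
        ((specializes_iff_mem_closure.2 hvz).map f.continuous)
      exact (h1.antisymm (hm _)).eq.symm
    obtain ⟨c, hc, h1, -⟩ := hpt z hxz hz
    have := h1 hzm
    refine le_antisymm (hdle _ fun z' hxz' hz' c' hc' => ?_) (this ▸ hdge z hxz c hc)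
    obtain ⟨c'', hc'', h3, h4⟩ := hpt z' hxz' hz'
    have : c' = c'' := by exact_mod_cast hc'.symm.trans hc''
    by_cases h5 : f.base z' = m
    · have := h3 h5; omega
    · have := h4 h5; omega
  · have hne : ∀ z, x ⤳ z → f.base z ≠ m := fun z hxz h => by
      have h1 : z ∈ closure ({x} : Set X) ∩ f.base ⁻¹' {m} := ⟨specializes_iff_mem_closure.1 hxz, h⟩
      exact (hempty.subset h1 : z ∈ (∅ : Set X))
    obtain ⟨z, hxzm, hz⟩ := IsClosed.exists_closed_singleton (isClosed_closure (s := ({x} : Set X)))
      ⟨x, subset_closure rfl⟩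
    have hxz : x ⤳ z := specializes_iff_mem_closure.2 hxzm
    obtain ⟨c, hc, -, h2⟩ := hpt z hxz hz
    have hca := h2 (hne z hxz)
    have hd1 : d ≤ c := hdle c fun z' hxz' hz' c' hc' => by
      obtain ⟨c'', hc'', -, h4⟩ := hpt z' hxz' hz'
      have : c' = c'' := by exact_mod_cast hc'.symm.trans hc''
      have := h4 (hne z' hxz')
      omega
    have := hdge z hxz c hc
    omega

end GrothLib.DimClosure18
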